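import Mathlib

/-!
# Generating triples of M23: image lists of `x`, `y`, their inverses, and words in them
-/

set_option autoImplicit false

namespace CfsgLib.M23Triples

/-- A certificate: the three primes, two permutations with inverses, five words. -/
abbrev Cert : Type := (ℕ × ℕ × ℕ) × ((List ℕ × List ℕ) × (List ℕ × List ℕ)) × List (List Bool)

/-- Certificates, part 0. -/
def certs0 : List Cert := [
  ((2, 5, 11),
    (([16,1,17,7,8,12,6,3,4,9,10,11,5,20,15,14,0,2,18,19,13,22,21,23],
      [16,1,17,7,8,12,6,3,4,9,10,11,5,20,15,14,0,2,18,19,13,22,21,23]),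
     ([8,9,2,18,4,19,10,11,5,14,17,1,6,0,7,12,21,15,16,13,20,22,3,23],
      [13,11,2,22,4,8,12,14,0,1,6,7,15,19,9,17,18,10,3,5,20,16,21,23])),
    [[true,true,true,false,true,true,true,false,true,true,false,true,true,false],
     [true],
     [true,true,false,true,true,false],
     [true,false],
     [true,true,true,false,true,false]]),
  ((2, 5, 23),
    (([16,1,2,9,22,5,17,7,14,3,10,20,19,13,8,21,0,6,18,12,11,15,4,23],
      [16,1,2,9,22,5,17,7,14,3,10,20,19,13,8,21,0,6,18,12,11,15,4,23]),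
     ([4,8,12,3,15,16,5,11,20,7,6,22,0,17,14,2,18,1,10,19,13,9,21,23],
      [12,17,15,3,0,6,10,9,1,21,18,7,2,20,14,4,5,13,16,19,8,22,11,23])),
    [[true,true,true,true,false,true,false,true,true,true,false,true,false,true,false],
     [true],
     [true,true,false,true,true,false,true,false],
     [true,true,true,false,true,true,false,true,false],
     [true,false]]),
  ((2, 7, 7),
    (([5,1,2,17,9,0,22,11,13,4,12,7,10,8,14,21,16,3,18,19,20,15,6,23],
      [5,1,2,17,9,0,22,11,13,4,12,7,10,8,14,21,16,3,18,19,20,15,6,23]),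
     ([20,2,3,11,8,5,6,0,13,21,17,4,10,1,9,19,22,18,14,16,15,12,7,23],
      [7,13,1,2,11,5,6,22,4,14,12,3,21,8,18,20,19,10,17,15,0,9,16,23])),
    [[true,true,false,true,true,false,true,false,true,true,false,true,true,false,true,false],
     [true,true,true,true,false,true,true,false],
     [true],
     [true,true,true,true,true,false,true,false],
     [true,true,false]]),
  ((2, 7, 11),
    (([0,2,1,3,7,17,22,4,18,9,10,11,12,19,14,20,21,5,8,13,15,16,6,23],
      [0,2,1,3,7,17,22,4,18,9,10,11,12,19,14,20,21,5,8,13,15,16,6,23]),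
     ([13,2,0,12,1,21,11,15,14,20,5,9,6,16,10,8,22,17,18,3,19,7,4,23],
      [2,4,1,19,22,10,12,21,15,11,14,6,3,0,8,7,13,17,18,20,9,5,16,23])),
    [[true,true,false,true,true,false,true,true,false,true,true,false,true,true,false],
     [true,true,true,true,true,true,false,true,false],
     [true],
     [true,false],
     [true,true,false,true,true,false,true,false]]),
  ((2, 7, 23),
    (([18,6,17,12,4,5,1,7,21,15,16,11,3,13,19,9,10,2,0,14,20,8,22,23],
      [18,6,17,12,4,5,1,7,21,15,16,11,3,13,19,9,10,2,0,14,20,8,22,23]),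
     ([11,19,3,10,12,13,21,22,0,14,8,20,1,15,5,6,16,17,4,7,2,9,18,23],
      [8,12,20,2,18,14,15,19,10,21,3,0,4,5,9,13,16,17,22,1,11,6,7,23])),
    [[true,true,true,false,true,true,true,true,true,false,true,true,true,false,true,false],
     [true,true,true,true,true,false,true,true,false,true,true,false],
     [true],
     [true,true,true,false],
     [true,false]]),
  ((2, 11, 11),
    (([7,6,2,17,11,9,1,0,8,5,14,4,12,18,10,20,16,3,13,19,15,21,22,23],
      [7,6,2,17,11,9,1,0,8,5,14,4,12,18,10,20,16,3,13,19,15,21,22,23]),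
     ([17,2,4,12,8,11,13,5,21,18,0,14,16,10,22,7,19,3,6,9,20,15,1,23],
      [10,22,1,17,2,7,18,15,4,19,13,5,3,6,11,21,12,0,9,16,20,8,14,23])),
    [[true,true,true,false,true,true,false,true,false,true,false,true,false],
     [true,true,true,false,true,true,true,false,true,true,false],
     [true,true,false,true,false,true,false],
     [true],
     [true,true,true,false,true,true,false,true,false]]),
  ((2, 11, 23),
    (([4,1,18,11,0,5,12,7,15,9,13,3,6,10,16,8,14,17,2,19,20,22,21,23],
      [4,1,18,11,0,5,12,7,15,9,13,3,6,10,16,8,14,17,2,19,20,22,21,23]),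
     ([2,8,15,4,9,11,6,22,13,5,12,21,1,7,20,10,18,16,14,0,3,17,19,23],
      [19,12,0,20,3,9,6,13,1,4,15,5,10,8,18,2,17,21,16,22,14,11,7,23])),
    [[true,true,false,true,true,false],
     [true,true,true,true,false],
     [true,true,true,false,true,false],
     [true],
     [true,false]]),
  ((2, 23, 23),
    (([14,11,13,8,5,4,6,21,3,9,19,1,22,2,0,15,16,17,18,10,20,7,12,23],
      [14,11,13,8,5,4,6,21,3,9,19,1,22,2,0,15,16,17,18,10,20,7,12,23]),
     ([13,7,22,12,19,16,18,8,11,6,9,5,20,17,10,1,2,3,4,21,15,0,14,23],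
      [21,15,16,17,18,11,9,1,7,10,14,8,3,0,22,20,5,13,6,4,12,19,2,23])),
    [[true,true,true,false,true,true,true,false],
     [true,true,true,false,true,true,false],
     [true,true,false,true,false],
     [true,true,true,true,true,false],
     [true]])]

/-- Certificates, part 1. -/
def certs1 : List Cert := [
  ((3, 3, 11),
    (([4,1,20,22,6,15,0,3,2,9,13,21,12,16,14,18,10,17,5,11,8,19,7,23],
      [6,1,8,7,0,18,4,22,20,9,16,19,12,10,14,5,13,17,15,21,2,11,3,23]),
     ([6,0,2,20,10,12,1,7,18,8,22,14,13,5,16,15,11,3,9,19,17,21,4,23],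
      [1,6,2,17,22,13,0,7,9,18,4,16,5,12,11,15,14,20,8,19,3,21,10,23])),
    [[false],
     [true,false,true,true,false,true,false,false],
     [true,false,true,false,false],
     [true,false],
     [true,true,false,true,false,true,false]]),
  ((3, 3, 23),
    (([0,15,4,10,20,16,5,7,22,12,14,9,11,13,3,19,6,17,18,1,2,8,21,23],
      [0,19,20,14,2,6,16,7,21,11,3,12,9,13,10,1,5,17,18,15,4,22,8,23]),
     ([5,0,13,11,7,1,2,8,4,22,10,18,12,6,21,15,16,9,3,19,14,20,17,23],
      [1,5,6,18,8,0,13,4,7,17,10,3,12,2,20,15,16,22,11,19,21,14,9,23])),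
    [[false],
     [true,false,false,true,false,false,true,false,false],
     [true,true,false,true,false,true,false,false],
     [true,false,true,false,false],
     [true,false]]),
  ((3, 5, 5),
    (([2,11,6,3,18,14,0,10,15,1,13,9,12,7,19,17,16,8,21,5,20,4,22,23],
      [6,9,0,3,21,19,2,13,17,11,7,1,12,10,5,8,16,15,4,14,20,18,22,23]),
     ([11,9,22,18,10,0,7,3,12,5,17,1,16,13,4,14,2,15,20,19,6,21,8,23],
      [5,11,16,7,14,9,20,6,22,1,4,0,8,13,15,17,12,10,3,19,18,21,2,23])),
    [[false],
     [true],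
     [true,true,false,true,false,true,false,false],
     [true,true,false,false],
     [true,true,false]]),
  ((3, 5, 7),
    (([0,8,12,6,1,5,19,7,4,9,16,10,22,18,21,15,11,14,20,3,13,17,2,23],
      [0,4,22,19,8,5,3,7,1,9,11,16,2,20,17,15,10,21,13,6,18,14,12,23]),
     ([15,1,20,11,2,7,6,12,16,4,14,5,3,0,21,17,10,18,13,19,22,8,9,23],
      [13,1,4,12,9,11,6,5,21,22,16,3,7,18,10,0,8,15,17,19,2,14,20,23])),
    [[false],
     [true],
     [true,false],
     [true,false,false],
     [true,true,false,true,false]]),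
  ((3, 5, 11),
    (([20,6,11,22,2,15,16,5,14,0,8,4,12,13,10,7,1,3,18,19,9,21,17,23],
      [9,16,4,17,11,7,1,15,10,20,14,2,12,13,8,5,6,22,18,19,0,21,3,23]),
     ([4,17,16,6,7,21,0,3,1,20,12,11,18,9,14,13,8,2,5,15,19,10,22,23],
      [6,8,17,7,0,18,3,4,16,13,21,11,10,15,14,19,2,1,12,20,9,5,22,23])),
    [[false],
     [true],
     [true,true,true,false,false,true,false,false],
     [true,false],
     [true,true,false,true,false,true,false]]),
  ((3, 5, 23),
    (([17,6,9,14,10,5,8,21,1,16,18,0,12,7,22,15,2,11,4,19,20,13,3,23],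
      [11,8,16,22,18,5,1,13,6,2,4,17,12,21,3,15,9,0,10,19,20,7,14,23]),
     ([9,20,2,0,4,10,18,11,21,8,12,16,13,19,15,17,6,1,7,5,14,3,22,23],
      [3,17,2,21,4,19,16,18,9,0,5,7,10,12,20,14,11,15,6,13,1,8,22,23])),
    [[false],
     [true],
     [true,false,true,true,false,true,false,false],
     [true,false,true,false,true,true,false,false],
     [true,false]]),
  ((3, 7, 7),
    (([7,1,12,6,4,5,17,15,8,13,14,10,21,18,11,0,22,3,9,16,20,2,19,23],
      [15,1,21,17,4,5,3,0,8,18,11,14,2,9,10,7,19,6,13,22,20,12,16,23]),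
     ([9,4,0,3,14,2,6,1,11,10,13,18,15,16,21,7,5,8,22,17,19,12,20,23],
      [2,7,5,3,1,16,6,15,17,0,9,8,21,10,4,12,13,19,11,20,22,14,18,23])),
    [[false],
     [true,false,true,false,false],
     [true],
     [true,true,true,false,true,false],
     [true,true,false,true,false]]),
  ((3, 7, 11),
    (([0,1,22,4,11,16,8,14,15,18,5,3,12,7,13,6,10,2,21,19,20,9,17,23],
      [0,1,17,11,3,10,15,13,6,21,16,4,12,14,7,8,5,22,9,19,20,18,2,23]),
     ([2,20,6,11,14,1,12,16,19,8,10,22,9,7,13,18,15,17,4,0,21,3,5,23],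
      [19,5,0,21,18,22,2,13,9,12,10,3,6,14,4,16,7,17,15,8,1,20,11,23])),
    [[false],
     [true,false,true,false,true,true,true,false,false],
     [true],
     [true,false],
     [true,true,false,false]])]

/-- Certificates, part 2. -/
def certs2 : List Cert := [
  ((3, 7, 23),
    (([18,8,2,3,1,13,7,9,4,6,10,5,14,11,16,20,12,17,22,19,21,15,0,23],
      [22,4,2,3,8,11,9,6,1,7,10,13,16,5,12,21,14,17,0,19,15,20,18,23]),
     ([13,20,5,21,3,17,10,9,22,2,19,11,4,1,18,0,16,14,7,12,8,6,15,23],
      [15,13,9,4,12,2,21,18,20,7,6,11,19,0,17,22,16,5,14,10,1,3,8,23])),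
    [[false],
     [true,true,true,false,true,true,false,true,false],
     [true],
     [true,false,false],
     [true,false]]),
  ((3, 11, 11),
    (([17,21,4,6,5,2,9,11,8,3,13,15,12,19,14,7,0,16,18,10,1,20,22,23],
      [16,20,5,9,2,4,3,15,8,6,19,7,12,10,14,11,17,0,18,13,21,1,22,23]),
     ([22,18,16,14,19,17,1,8,11,4,3,6,7,13,0,20,5,12,2,15,21,10,9,23],
      [14,6,18,10,9,16,11,12,7,22,21,8,17,13,3,19,2,5,1,4,15,20,0,23])),
    [[false],
     [true,true,true,false,true,false],
     [true,true,false],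
     [true],
     [true,true,true,false,true,true,false,false]]),
  ((3, 11, 23),
    (([15,12,13,6,20,3,5,7,4,0,16,1,11,22,14,9,18,17,10,19,8,21,2,23],
      [9,11,22,5,8,6,3,7,20,15,18,12,1,2,14,0,10,17,16,19,4,21,13,23]),
     ([12,19,4,2,21,14,13,17,1,5,9,22,7,3,0,11,6,15,18,16,8,20,10,23],
      [14,8,3,13,2,9,16,12,20,10,22,15,0,6,5,17,19,7,18,1,21,4,11,23])),
    [[false],
     [true,true,true,true,false,false],
     [true,true,false],
     [true],
     [true,false]]),
  ((3, 23, 23),
    (([13,3,4,6,15,11,1,7,0,20,10,12,5,8,9,2,19,16,18,17,14,21,22,23],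
      [8,6,15,1,2,12,3,7,13,14,10,5,11,0,20,4,17,19,18,16,9,21,22,23]),
     ([15,4,14,7,9,18,1,22,0,21,5,12,19,8,13,11,10,16,2,20,3,17,6,23],
      [8,6,18,20,1,10,22,3,13,4,16,15,11,14,2,0,17,21,5,12,19,9,7,23])),
    [[false],
     [true,true,false,true,false,false],
     [true,false,true,true,true,false,false],
     [true,true,true,false,false],
     [true]]),
  ((5, 5, 5),
    (([2,7,11,9,18,14,17,21,3,20,10,15,0,6,1,12,16,4,13,8,19,5,22,23],
      [12,14,0,8,17,21,13,1,19,3,10,2,15,18,5,11,16,6,4,20,9,7,22,23]),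
     ([6,0,2,13,5,18,19,1,22,3,12,17,15,11,14,20,10,9,8,7,16,21,4,23],
      [1,7,2,9,22,4,0,19,18,17,16,13,10,3,14,12,20,11,5,6,15,21,8,23])),
    [[true,true,true,false,true,true,true,false],
     [false],
     [true,true,false,true,true,false],
     [true,true,false,false,false],
     [true,true,true,false,true,true,false]]),
  ((5, 5, 7),
    (([5,18,2,8,3,22,13,7,15,12,6,21,0,11,14,17,20,4,16,1,19,10,9,23],
      [12,19,2,4,17,0,10,7,3,22,21,13,9,6,14,8,18,15,1,20,16,11,5,23]),
     ([13,19,5,3,4,10,16,9,0,12,21,8,20,14,11,7,1,17,2,22,15,18,6,23],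
      [8,16,18,3,4,2,22,15,11,7,5,14,9,0,13,20,6,17,21,1,12,10,19,23])),
    [[true,true,false,true,true,false,false,false,false],
     [false],
     [true,false],
     [true,false,false],
     [true,true,false]]),
  ((5, 5, 11),
    (([0,3,16,10,21,4,11,8,9,6,12,7,18,14,15,2,13,17,1,5,20,22,19,23],
      [0,18,15,1,5,19,9,11,7,8,3,6,10,16,13,14,2,17,12,22,20,4,21,23]),
     ([18,21,16,3,8,4,6,12,17,2,0,19,10,11,22,15,14,20,7,1,5,13,9,23],
      [10,19,9,3,5,20,6,18,4,22,12,13,7,21,16,15,2,8,0,11,17,1,14,23])),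
    [[true,true,false,true,true,false],
     [false],
     [true,true,false,false],
     [true,false],
     [true,false,false]]),
  ((5, 5, 23),
    (([17,11,22,5,13,9,20,18,12,1,0,3,2,15,14,7,16,6,4,19,10,8,21,23],
      [10,9,12,11,18,3,17,15,21,5,20,1,8,4,14,13,16,0,7,19,6,22,2,23]),
     ([0,12,21,13,6,2,1,3,20,4,7,19,9,14,10,16,5,17,18,22,11,15,8,23],
      [0,6,5,7,9,16,4,10,22,12,14,20,1,3,13,21,15,17,18,11,8,2,19,23])),
    [[true,false,true,false,true,false,false],
     [false],
     [true,false,false,false],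
     [true,true,false],
     [true,false]])]

/-- Certificates, part 3. -/
def certs3 : List Cert := [
  ((5, 7, 7),
    (([4,12,15,19,1,2,6,5,21,9,3,18,17,10,14,20,11,0,8,22,7,16,13,23],
      [17,4,5,10,0,7,6,20,18,9,13,16,1,22,14,2,21,12,11,3,15,8,19,23]),
     ([2,16,19,3,0,7,21,8,10,18,1,6,15,11,4,14,17,5,13,12,20,22,9,23],
      [4,10,0,3,14,17,11,5,7,22,8,13,19,18,15,12,1,16,9,2,20,6,21,23])),
    [[true,true,false,false,true,false,false,false,false],
     [false],
     [true],
     [true,true,true,false,false,false],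
     [true,true,false,false,false,false]]),
  ((5, 7, 11),
    (([18,1,10,4,5,21,22,8,19,20,12,11,6,7,14,3,13,0,9,16,17,15,2,23],
      [17,1,22,15,3,4,12,13,7,18,2,11,10,16,14,21,19,20,0,8,9,5,6,23]),
     ([10,15,13,14,4,0,7,17,3,2,19,9,21,1,5,16,11,22,18,8,6,20,12,23],
      [5,13,9,8,4,14,20,6,19,11,0,16,22,2,3,1,15,7,18,10,21,12,17,23])),
    [[true,true,true,false,true,false,false,true,true,true,false,false,false],
     [false],
     [true],
     [true,false],
     [true,true,false]]),
  ((5, 7, 23),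
    (([10,4,18,20,6,5,14,0,2,8,3,16,9,13,19,11,22,15,12,1,7,21,17,23],
      [7,19,8,10,1,5,4,20,9,12,0,15,18,13,6,17,11,22,2,14,3,21,16,23]),
     ([5,3,1,14,22,2,11,6,21,16,15,19,8,4,17,13,10,0,18,12,20,7,9,23],
      [17,2,5,1,13,0,7,21,12,22,16,6,19,15,3,10,9,14,18,11,20,8,4,23])),
    [[true,true,false,true,false,true,true,false,false,false,false],
     [false],
     [true],
     [true,true,false],
     [true,false]]),
  ((5, 11, 11),
    (([15,1,18,3,5,6,8,10,17,7,11,13,0,9,2,21,14,4,19,16,20,22,12,23],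
      [12,1,14,3,17,4,5,9,6,13,7,10,22,11,16,0,19,8,2,18,20,15,21,23]),
     ([21,10,5,9,7,19,15,17,18,4,13,12,22,3,14,16,20,2,11,1,8,6,0,23],
      [22,19,17,13,9,2,21,4,20,3,1,18,11,10,14,6,15,7,8,5,16,0,12,23])),
    [[true,true,false,true,true,true,true,true,false,false],
     [false],
     [true,true,false,false,false],
     [true],
     [true,true,true,false]]),
  ((5, 11, 23),
    (([0,21,14,3,4,19,15,17,22,6,12,2,20,1,16,5,18,13,11,9,8,7,10,23],
      [0,13,11,3,4,15,9,21,20,19,22,18,10,17,2,6,14,7,16,5,12,1,8,23]),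
     ([8,6,14,12,11,0,4,9,7,22,13,17,1,2,5,20,3,21,18,10,16,15,19,23],
      [5,12,13,16,6,14,1,8,0,7,19,4,3,10,2,21,20,11,18,22,15,17,9,23])),
    [[true,true,true,true,true,false,true,true,true,true,false],
     [false],
     [true,true,false,true,false,false],
     [true],
     [true,false]]),
  ((5, 23, 23),
    (([21,9,2,11,4,6,14,5,18,13,16,17,22,8,15,7,0,12,1,10,20,19,3,23],
      [16,18,2,22,4,7,5,15,13,1,19,3,17,9,6,14,10,11,8,21,20,0,12,23]),
     ([4,21,3,16,13,18,0,2,11,6,12,5,15,7,22,19,17,20,14,8,10,9,1,23],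
      [6,22,7,2,0,11,9,13,19,21,20,8,10,4,18,12,3,16,5,15,17,1,14,23])),
    [[true,false,true,true,true,true,true,true,true,true,false,false],
     [false],
     [true,true,false,false,false],
     [true,false,true,false,false],
     [true]]),
  ((7, 7, 7),
    (([8,14,2,7,6,10,20,9,4,13,21,18,22,19,0,15,3,16,5,17,1,12,11,23],
      [14,20,2,16,8,18,4,3,0,7,5,22,21,9,1,15,17,19,11,13,6,10,12,23]),
     ([11,0,6,16,22,15,10,4,18,7,20,3,17,13,14,9,12,1,21,5,8,2,19,23],
      [1,17,21,11,7,19,2,9,20,15,6,0,16,13,14,5,3,12,8,22,10,18,4,23])),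
    [[true,true,true,false,false],
     [true,false,true,true,false,false,false],
     [false],
     [true,true,false],
     [true,true,false,false]]),
  ((7, 7, 11),
    (([21,19,16,18,14,17,2,12,11,9,4,6,5,13,7,1,0,10,20,22,15,8,3,23],
      [16,15,6,22,10,12,11,14,21,9,17,8,7,13,4,20,2,5,3,1,18,0,19,23]),
     ([22,14,2,15,4,9,19,13,21,10,6,20,11,18,3,12,5,16,0,17,1,7,8,23],
      [18,20,2,14,4,16,10,21,22,5,9,12,15,7,1,3,17,19,13,6,11,8,0,23])),
    [[true,true,false,true,true,false],
     [true,true,true,false],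
     [false],
     [true,false],
     [true,false,true,true,false,false,false]])]

/-- Certificates, part 4. -/
def certs4 : List Cert := [
  ((7, 7, 23),
    (([22,1,10,19,18,13,6,14,3,0,17,4,5,16,21,11,8,20,9,12,7,2,15,23],
      [9,1,21,8,11,12,6,20,16,18,2,15,19,5,7,22,13,10,4,3,17,14,0,23]),
     ([22,8,17,4,5,7,3,10,19,0,15,18,11,13,9,6,12,16,20,14,2,21,1,23],
      [9,22,20,6,3,4,15,5,1,14,7,12,16,13,19,10,17,2,11,8,18,21,0,23])),
    [[true,true,false,true,true,false],
     [true,false,false,false],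
     [false],
     [true,true,false,true,false,false],
     [true,false]]),
  ((7, 11, 11),
    (([1,19,22,6,14,3,18,7,10,2,11,13,20,9,17,15,0,16,21,4,5,12,8,23],
      [16,0,9,5,19,20,3,7,22,13,8,10,21,11,4,15,17,14,6,1,12,18,2,23]),
     ([5,7,9,8,17,3,16,15,18,0,12,21,6,20,14,22,1,13,4,11,2,10,19,23],
      [9,16,20,5,18,0,12,1,3,2,21,19,10,17,14,7,6,4,8,22,13,11,15,23])),
    [[true,false,false,true,true,false,false,false],
     [true,false,false,true,false,false,false],
     [false],
     [true],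
     [true,false,false,false,false]]),
  ((7, 11, 23),
    (([0,14,6,16,21,15,4,7,9,10,20,13,18,5,11,17,8,1,2,3,19,22,12,23],
      [0,17,18,19,6,13,2,7,16,8,9,14,22,11,1,5,3,15,12,20,10,4,21,23]),
     ([14,18,1,2,11,20,8,6,4,9,5,10,21,22,19,12,13,16,0,17,15,7,3,23],
      [18,2,3,22,8,10,7,21,6,9,11,4,15,16,0,20,17,19,1,14,5,12,13,23])),
    [[true,false,false,true,false,false],
     [true,false,false,true,false,false,false],
     [false],
     [true],
     [true,false]]),
  ((7, 23, 23),
    (([10,22,17,16,14,2,18,6,1,9,15,11,7,8,5,12,21,20,0,4,19,13,3,23],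
      [18,8,5,22,19,14,7,12,13,9,0,11,15,21,4,10,3,2,6,20,17,16,1,23]),
     ([13,4,8,7,18,2,3,19,21,0,17,16,5,1,6,11,9,12,10,15,14,22,20,23],
      [9,13,5,6,1,12,14,3,2,16,18,15,17,0,20,19,11,10,4,7,22,8,21,23])),
    [[true,true,true,false,true,false,true,false,false],
     [true,true,false,true,false,false,false],
     [false],
     [true,false,false],
     [true]]),
  ((11, 11, 11),
    (([22,4,9,7,19,16,13,14,11,3,5,18,15,20,17,10,6,8,0,12,1,21,2,23],
      [18,20,22,9,1,10,16,3,17,2,15,8,19,6,7,12,5,14,11,4,13,21,0,23]),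
     ([10,12,3,4,22,6,11,14,1,5,15,20,18,13,19,2,7,21,17,0,8,9,16,23],
      [19,8,15,2,3,9,5,16,20,21,0,6,1,13,7,10,22,18,12,14,11,17,4,23])),
    [[true,true,true,true,false,true,false,false,false],
     [true,true,false,false,true,false,false],
     [true,true,false,true,false,false],
     [false],
     [true,false,false]]),
  ((11, 11, 23),
    (([11,6,15,0,18,1,7,19,9,22,20,21,2,8,14,10,13,16,12,17,3,4,5,23],
      [3,5,12,20,21,22,1,6,13,8,15,0,18,16,14,2,17,19,4,7,10,11,9,23]),
     ([13,21,11,5,3,9,4,18,10,17,16,6,7,8,0,15,20,1,14,2,22,19,12,23],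
      [14,17,19,4,6,3,11,12,13,5,8,2,22,0,18,15,10,9,7,21,16,1,20,23])),
    [[true,true,false,true,true,false],
     [true,true,true,false],
     [true,true,false,false,false,false],
     [false],
     [true,false]]),
  ((11, 23, 23),
    (([11,8,13,10,3,9,6,15,17,19,16,4,14,12,22,1,21,2,0,18,7,5,20,23],
      [18,15,17,4,11,21,6,20,1,5,3,0,13,2,12,7,10,8,19,9,22,16,14,23]),
     ([8,2,9,10,14,11,21,3,6,15,18,16,1,20,22,19,12,13,5,0,7,4,17,23],
      [19,12,1,7,21,18,8,20,0,2,3,5,16,17,4,9,11,22,10,15,13,6,14,23])),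
    [[true,false,false,false,false,true,false,false,false,false],
     [true,true,false,false,false,false],
     [true,true,false,false],
     [false],
     [true]]),
  ((23, 23, 23),
    (([6,13,22,19,16,12,5,21,1,17,4,15,7,14,11,18,8,0,9,2,10,3,20,23],
      [17,8,19,21,10,6,0,12,16,18,20,14,5,1,13,11,4,9,15,3,22,7,2,23]),
     ([22,13,4,6,19,18,1,16,9,20,7,12,21,15,17,5,8,10,14,0,11,2,3,23],
      [19,6,21,22,2,15,3,10,16,8,17,20,11,1,18,13,7,14,5,4,9,12,0,23])),
    [[true,true,false,true,true,false],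
     [true,true,true,false,false,false],
     [true,false,false,false],
     [true,false,true,false,false],
     [false]])]

end CfsgLib.M23Triples
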