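import Cfsg.Agent.Lib.M23Triples.Criterion
import Cfsg.Agent.Lib.M23Triples.Data
import Cfsg.Agent.Lib.GolayModule.Perms

/-!
# Checking the certificates of generating triples
-/

set_option autoImplicit false

namespace CfsgLib.M23Triples

open Cfsg CfsgLib.Golay CfsgLib.GolayModule
open scoped Pointwise

/-- Power of an image list. -/
def pw (l : List ℕ) : ℕ → List ℕ
  | 0 => List.range 24
  | n + 1 => comp (pw l n) l

theorem toList_pow (σ : Equiv.Perm GolayPt) : ∀ n, toList (σ ^ n) = pw (toList σ) n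
  | 0 => by rw [pow_zero, toList_one]; rfl
  | n + 1 => by rw [pow_succ, toList_mul, toList_pow σ n]; rfl

/-- The image list has order `n` for a prime `n`. -/
def ordOK (l : List ℕ) (n : ℕ) : Bool := (l != List.range 24) && (pw l n == List.range 24)

theorem orderOf_of_ordOK {σ : Equiv.Perm GolayPt} {n : ℕ} (hn : n.Prime) (h : ordOK (toList σ) n = true) :
    orderOf σ = n := by
  have := Fact.mk hn
  rw [ordOK, Bool.and_eq_true, bne_iff_ne, beq_iff_eq, ← toList_pow, ← toList_one] at h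
  exact orderOf_eq_prime (toList_injective h.2) (fun e => h.1 (by rw [e]))

/-- A word in two image lists. -/
def evalW (x y : List ℕ) : List Bool → List ℕ
  | [] => List.range 24
  | b :: w => comp (bif b then y else x) (evalW x y w)

theorem exists_word (σ τ : Equiv.Perm GolayPt) : ∀ w : List Bool,
    ∃ ρ ∈ Subgroup.closure ({σ, τ} : Set (Equiv.Perm GolayPt)), toList ρ = evalW (toList σ) (toList τ) w
  | [] => ⟨1, one_mem _, toList_one⟩
  | b :: w => by
    obtain ⟨ρ, hρ, hl⟩ := exists_word σ τ w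
    cases b
    · exact ⟨σ * ρ, mul_mem (Subgroup.subset_closure (by simp)) hρ, by rw [toList_mul, hl]; rfl⟩
    · exact ⟨τ * ρ, mul_mem (Subgroup.subset_closure (by simp)) hρ, by rw [toList_mul, hl]; rfl⟩

/-- All the finite checks of a certificate. -/
def certOK (c : Cert) : Bool :=
  ordOK c.2.1.1.1 c.1.1 && ordOK c.2.1.2.1 c.1.2.1 && ordOK (comp c.2.1.1.1 c.2.1.2.1) c.1.2.2 &&
    Nat.beq c.2.2.length 5 &&
    (c.2.2.zip [3, 5, 7, 11, 23]).all fun wn => ordOK (evalW c.2.1.1.1 c.2.1.2.1 wn.1) wn.2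

/-- The permutation lists lie in the point stabiliser. -/
def CertMem (c : Cert) : Prop := StabData 8388608 c.2.1.1 ∧ StabData 8388608 c.2.1.2

theorem mem_M23_of_stab {x : List ℕ × List ℕ} (h : StabData 8388608 x) :
    ∃ σ : Spor.M23, toList (σ : Equiv.Perm GolayPt) = x.1 := by
  obtain ⟨σ, hσ, hl, hu⟩ := h.exists_perm
  refine ⟨⟨σ, ?_⟩, hl⟩
  rw [sporM23_eq, mem_fixPts]
  refine ⟨hσ, fun p hp => ?_⟩
  rw [List.mem_singleton] at hp
  subst hp
  have h1 : ({σ none} : Finset GolayPt) = {none} := by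
    apply encS_injective
    have e : encS ({none} : Finset GolayPt) = 8388608 := by decide +kernel
    rw [show ({σ none} : Finset GolayPt) = σ • ({none} : Finset GolayPt) by simp [Finset.smul_finset_singleton],
      encS_smul, e, hl, hu]
  simpa using h1

theorem of_cert {c : Cert} (hm : CertMem c) (hok : certOK c = true) (hp : c.1.1.Prime) (hq : c.1.2.1.Prime)
    (hr : c.1.2.2.Prime) :
    ∃ x y z : Spor.M23, orderOf x = c.1.1 ∧ orderOf y = c.1.2.1 ∧ orderOf z = c.1.2.2 ∧ x * y * z = 1 ∧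
      Subgroup.closure {x, y} = ⊤ := by
  obtain ⟨x, hx⟩ := mem_M23_of_stab hm.1
  obtain ⟨y, hy⟩ := mem_M23_of_stab hm.2
  simp only [certOK, Bool.and_eq_true] at hok
  obtain ⟨⟨⟨⟨h1, h2⟩, h3⟩, hlen⟩, h4⟩ := hok
  rw [← hx, ← hy] at h4
  rw [← hx] at h1 h3
  rw [← hy] at h2 h3
  rw [← toList_mul] at h3
  refine ⟨x, y, (x * y)⁻¹, ?_, ?_, ?_, mul_inv_cancel _, ?_⟩
  · rw [← Subgroup.orderOf_coe]; exact orderOf_of_ordOK hp h1
  · rw [← Subgroup.orderOf_coe]; exact orderOf_of_ordOK hq h2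
  · rw [orderOf_inv, ← Subgroup.orderOf_coe]; exact orderOf_of_ordOK hr h3
  · refine eq_top_of_orders fun n hn => ?_
    obtain ⟨w, hw⟩ : ∃ w, (w, n) ∈ c.2.2.zip [3, 5, 7, 11, 23] := by
      obtain ⟨i, hi, rfl⟩ := List.getElem_of_mem hn
      have hl : c.2.2.length = 5 := Nat.eq_of_beq_eq_true hlen
      have hi5 : i < 5 := hi
      refine ⟨c.2.2[i]'(by rw [hl]; exact hi5), List.mem_iff_getElem.mpr ⟨i, ?_, ?_⟩⟩
      · rw [List.length_zip, hl]; exact hi5
      · simp
    obtain ⟨ρ, hρ, hρl⟩ := exists_word (x : Equiv.Perm GolayPt) y w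
    have hmap : ρ ∈ (Subgroup.closure ({x, y} : Set Spor.M23)).map Spor.M23.subtype := by
      rw [MonoidHom.map_closure, Set.image_pair]; exact hρ
    obtain ⟨ρ', hρ', rfl⟩ := hmap
    refine ⟨ρ', hρ', ?_⟩
    rw [← Subgroup.orderOf_coe]
    refine orderOf_of_ordOK ?_ ?_
    · simp at hn; rcases hn with rfl | rfl | rfl | rfl | rfl <;> norm_num
    · have := List.all_eq_true.mp h4 _ hw
      rw [← hρl] at this
      exact this

/-- All certificates. -/
def allCerts : List Cert := certs0 ++ certs1 ++ certs2 ++ certs3 ++ certs4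

theorem mem0 : ∀ c ∈ certs0, CertMem c := by unfold CertMem StabData; decide +kernel
theorem mem1 : ∀ c ∈ certs1, CertMem c := by unfold CertMem StabData; decide +kernel
theorem mem2 : ∀ c ∈ certs2, CertMem c := by unfold CertMem StabData; decide +kernel
theorem mem3 : ∀ c ∈ certs3, CertMem c := by unfold CertMem StabData; decide +kernel
theorem mem4 : ∀ c ∈ certs4, CertMem c := by unfold CertMem StabData; decide +kernel
theorem ok0 : certs0.all certOK = true := by decide +kernel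
theorem ok1 : certs1.all certOK = true := by decide +kernel
theorem ok2 : certs2.all certOK = true := by decide +kernel
theorem ok3 : certs3.all certOK = true := by decide +kernel
theorem ok4 : certs4.all certOK = true := by decide +kernel

theorem cert_facts {c : Cert} (h : c ∈ allCerts) : CertMem c ∧ certOK c = true := by
  simp only [allCerts, List.mem_append] at h
  rcases h with (((h | h) | h) | h) | h
  exacts [⟨mem0 c h, List.all_eq_true.mp ok0 c h⟩, ⟨mem1 c h, List.all_eq_true.mp ok1 c h⟩,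
    ⟨mem2 c h, List.all_eq_true.mp ok2 c h⟩, ⟨mem3 c h, List.all_eq_true.mp ok3 c h⟩,
    ⟨mem4 c h, List.all_eq_true.mp ok4 c h⟩]

/-- The six primes. -/
theorem covered : ∀ p ∈ [2, 3, 5, 7, 11, 23], ∀ q ∈ [2, 3, 5, 7, 11, 23], ∀ r ∈ [2, 3, 5, 7, 11, 23],
    p ≤ q → q ≤ r → ¬ (p = 2 ∧ q = 2) →
    ¬ ((p = 2 ∧ q = 3) ∨ (p = 2 ∧ q = 5 ∧ r = 5) ∨ (p = 2 ∧ q = 5 ∧ r = 7) ∨ (p = 3 ∧ q = 3 ∧ r ≤ 7)) →
    ∃ c ∈ allCerts, c.1 = (p, q, r) := by decide +kernel

end CfsgLib.M23Triples
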