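import Cfsg.Agent.Lib.Golay.Mathieu

/-!
# A generation criterion for M23

A subgroup containing elements of orders 3, 5, 7, 11 and 23 is the whole group: Sylow's congruences at 23 and
11, with the normaliser orders 253 and 55, leave no other order.
-/

set_option autoImplicit false

namespace CfsgLib.M23Triples

open Cfsg CfsgLib.Golay

/-- Sylow's congruence inside a subgroup, with the order of the normaliser in the whole group known. -/
theorem sylow_condition {G : Type*} [Group G] [Finite G] {p r : ℕ} (hp : p.Prime)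
    (hp2 : ¬ p ^ 2 ∣ Nat.card G) {π : G} (hπ : orderOf π = p)
    (hN : Nat.card (Subgroup.normalizer (Subgroup.zpowers π : Set G)) = p * r) (H : Subgroup G)
    (hdvd : p ∣ Nat.card H) :
    ∃ e, e ∣ r ∧ p * e ∣ Nat.card H ∧ Nat.card H / (p * e) % p = 1 := by
  have := Fact.mk hp
  have hsq : ∀ K : Subgroup G, (Nat.card K).factorization p ≤ 1 := by
    intro K
    by_contra hlt
    exact hp2 (((pow_dvd_pow p (not_le.mp hlt)).trans (Nat.ordProj_dvd _ _)).trans K.card_subgroup_dvd_card)
  let P : Sylow p H := default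
  have hPc : Nat.card P = p := by
    rw [P.card_eq_multiplicity]
    have h1 := hp.factorization_pos_of_dvd Nat.card_pos.ne' hdvd
    rw [le_antisymm (hsq H) h1, pow_one]
  have hmapc : Nat.card ((P : Subgroup H).map H.subtype) = p := by
    rw [← Nat.card_congr ((P : Subgroup H).equivMapOfInjective H.subtype H.subtype_injective).toEquiv]
    exact hPc
  have hfac : (Nat.card G).factorization p = 1 := by
    refine le_antisymm ?_ (hp.factorization_pos_of_dvd Nat.card_pos.ne' (hdvd.trans H.card_subgroup_dvd_card))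
    rw [← Subgroup.card_top (G := G)]
    exact hsq ⊤
  let Q₁ : Sylow p G := Sylow.ofCard ((P : Subgroup H).map H.subtype) (by rw [hmapc, hfac, pow_one])
  let Q₂ : Sylow p G := Sylow.ofCard (Subgroup.zpowers π) (by rw [Nat.card_zpowers, hπ, hfac, pow_one])
  have hQ : Nat.card (Subgroup.normalizer (((P : Subgroup H).map H.subtype : Subgroup G) : Set G)) = p * r := by
    have h1 := Sylow.card_eq_index_normalizer Q₁
    have h2 := Sylow.card_eq_index_normalizer Q₂
    have e : (Subgroup.normalizer (Q₁ : Set G)).index = (Subgroup.normalizer (Q₂ : Set G)).index := by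
      rw [← h1, ← h2]
    have m1 := (Subgroup.normalizer (Q₁ : Set G)).index_mul_card
    have m2 := (Subgroup.normalizer (Q₂ : Set G)).index_mul_card
    rw [e, ← m2] at m1
    have := Nat.eq_of_mul_eq_mul_left (Nat.pos_of_ne_zero Subgroup.index_ne_zero_of_finite) m1
    exact this.trans hN
  obtain ⟨e, he⟩ : p ∣ Nat.card (Subgroup.normalizer ((P : Subgroup H) : Set H)) :=
    hPc.symm.dvd.trans (Subgroup.card_dvd_of_le Subgroup.le_normalizer)
  have hd : Nat.card (Subgroup.normalizer ((P : Subgroup H) : Set H)) ∣ p * r := by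
    rw [← hQ, Nat.card_congr ((Subgroup.normalizer ((P : Subgroup H) : Set H)).equivMapOfInjective
      H.subtype H.subtype_injective).toEquiv]
    exact Subgroup.card_dvd_of_le (Subgroup.le_normalizer_map H.subtype)
  refine ⟨e, Nat.dvd_of_mul_dvd_mul_left hp.pos (he ▸ hd),
    he ▸ Subgroup.card_subgroup_dvd_card _, ?_⟩
  have h3 : Nat.card H / (p * e) = (Subgroup.normalizer ((P : Subgroup H) : Set H)).index := by
    rw [← he, ← Subgroup.index_mul_card (Subgroup.normalizer ((P : Subgroup H) : Set H)),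
      Nat.mul_div_cancel _ Nat.card_pos]
  have h4 := card_sylow_modEq_one p H
  rw [Sylow.card_eq_index_normalizer P] at h4
  rw [h3]
  exact Eq.trans h4 (Nat.one_mod_eq_one.mpr hp.ne_one)

theorem arith : ∀ m : Fin 385, m.val ∣ 384 →
    (∃ e : Fin 12, e.val ∣ 11 ∧ 23 * e.val ∣ 26565 * m.val ∧ 26565 * m.val / (23 * e.val) % 23 = 1) →
    (∃ e : Fin 6, e.val ∣ 5 ∧ 11 * e.val ∣ 26565 * m.val ∧ 26565 * m.val / (11 * e.val) % 11 = 1) →
    m.val = 384 := by decide +kernel

theorem double_fix_zero {σ : Equiv.Perm GolayPt} (h0 : σ none = none) {k : ℕ} (hk : 1 ≤ k) (hk' : k < 11)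
    (h : σ * doublePerm = doublePerm ^ k * σ) : σ (some 0) = some 0 := by
  have h2 : (doublePerm ^ k) (σ (some 0)) = σ (some 0) := by
    have := DFunLike.congr_fun h (some 0)
    simp only [Equiv.Perm.mul_apply] at this
    rw [← this, show doublePerm (some 0) = some 0 by decide +kernel]
  have h4 : ∀ i : Fin 11, i.val ≠ 0 → ∀ q : GolayPt, (doublePerm ^ i.val) q = q → q = none ∨ q = some 0 := by
    decide +kernel
  rcases h4 ⟨k, hk'⟩ (by show k ≠ 0; omega) _ h2 with h5 | h5
  · rw [← h0] at h5; exact absurd (σ.injective h5) (Option.some_ne_none _)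
  · exact h5

theorem doublePerm_fix_none : doublePerm none = none := by decide +kernel

/-- A subgroup of M23 with elements of orders 3, 5, 7, 11, 23 is everything. -/
theorem eq_top_of_orders {H : Subgroup Spor.M23}
    (h : ∀ n ∈ [3, 5, 7, 11, 23], ∃ w ∈ H, orderOf w = n) : H = ⊤ := by
  have hcard : Nat.card Spor.M23 = 10200960 := natCard_sporM23
  have hπ : shiftPerm ∈ Spor.M23 := by
    rw [sporM23_eq]; exact mem_fixPts.mpr ⟨shiftPerm_mem_M24, by decide +kernel⟩
  have hδ : doublePerm ∈ Spor.M23 := by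
    rw [sporM23_eq]; exact mem_fixPts.mpr ⟨doublePerm_mem_M24, by simp [doublePerm_fix_none]⟩
  have hmem : ∀ σ ∈ Spor.M23, σ ∈ M24 ∧ σ none = none := fun σ hσ => by
    rw [sporM23_eq, mem_fixPts] at hσ
    exact ⟨hσ.1, hσ.2 none (by simp)⟩
  have hN := natCard_normalizer_eq (p := 23) (r := 11) _ hπ (by norm_num) orderOf_shiftPerm hcard
    (by norm_num) ((natCard_normalizer_le _ hπ (by norm_num) orderOf_shiftPerm shiftCands
      (fun σ hσ k hk hk' h => toList_mem_shiftCands (hmem σ hσ).1 (hmem σ hσ).2 hk hk' h)).trans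
      (by rw [length_shiftCands]))
    (by decide +kernel)
  have hM := natCard_normalizer_eq (p := 11) (r := 5) _ hδ (by norm_num) orderOf_doublePerm hcard
    (by norm_num) ((natCard_normalizer_le _ hδ (by norm_num) orderOf_doublePerm doubleCands
      (fun σ hσ k hk hk' h => toList_mem_doubleCands (hmem σ hσ).1 (hmem σ hσ).2
        (double_fix_zero (hmem σ hσ).2 hk hk' h) hk hk' h)).trans
      (by rw [length_doubleCands]))
    (by decide +kernel)
  have hd : ∀ n ∈ [3, 5, 7, 11, 23], n ∣ Nat.card H := by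
    intro n hn
    obtain ⟨w, hw, hwn⟩ := h n hn
    rw [← hwn, ← Subgroup.orderOf_mk w hw]
    exact orderOf_dvd_natCard _
  have h26 : 26565 ∣ Nat.card H :=
    Nat.Coprime.mul_dvd_of_dvd_of_dvd (m := 3 * 5 * 7 * 11) (n := 23) (by norm_num)
      (Nat.Coprime.mul_dvd_of_dvd_of_dvd (by norm_num)
        (Nat.Coprime.mul_dvd_of_dvd_of_dvd (by norm_num)
          (Nat.Coprime.mul_dvd_of_dvd_of_dvd (by norm_num) (hd 3 (by simp)) (hd 5 (by simp))) (hd 7 (by simp)))
        (hd 11 (by simp))) (hd 23 (by simp))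
  obtain ⟨m, hm⟩ := h26
  have hH : Nat.card H ∣ 26565 * 384 := by
    have := H.card_subgroup_dvd_card
    rwa [hcard] at this
  have hm384 : m ∣ 384 := Nat.dvd_of_mul_dvd_mul_left (by norm_num) (hm ▸ hH)
  have hmle : m < 385 := Nat.lt_succ_of_le (Nat.le_of_dvd (by norm_num) hm384)
  obtain ⟨e, he1, he2, he3⟩ := sylow_condition (by norm_num) (by rw [hcard]; norm_num)
    (by rw [← Subgroup.orderOf_coe]; exact orderOf_shiftPerm) hN H (hd 23 (by simp))
  obtain ⟨f, hf1, hf2, hf3⟩ := sylow_condition (by norm_num) (by rw [hcard]; norm_num)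
    (by rw [← Subgroup.orderOf_coe]; exact orderOf_doublePerm) hM H (hd 11 (by simp))
  rw [hm] at he2 he3 hf2 hf3
  have := arith ⟨m, hmle⟩ hm384
    ⟨⟨e, Nat.lt_succ_of_le (Nat.le_of_dvd (by norm_num) he1)⟩, he1, he2, he3⟩
    ⟨⟨f, Nat.lt_succ_of_le (Nat.le_of_dvd (by norm_num) hf1)⟩, hf1, hf2, hf3⟩
  apply Subgroup.eq_top_of_card_eq
  rw [hm, hcard]
  change m = 384 at this
  rw [this]

end CfsgLib.M23Triples
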