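import Cfsg.Agent.Lib.M23Triples.Scott
import Cfsg.Agent.Lib.Golay.Dodecad
import Cfsg.Agent.Lib.Golay.Orbits
import Cfsg.Agent.Lib.Golay.Mathieu

/-!
# Cycle counts of prime order elements of M23
-/

set_option autoImplicit false

namespace CfsgLib.M23Triples

open Cfsg CfsgLib.Golay

/-- Number of fixed points on the 24 points. -/
def nfix (σ : Equiv.Perm GolayPt) : ℕ := (Finset.univ.filter fun p => σ p = p).card

/-- Number of fixed points of an image list. -/
def nfixL (l : List ℕ) : ℕ := (Finset.univ.filter fun i : Fin 24 => Nat.beq (l.getD i.val 0) i.val = true).card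

theorem nfixL_toList (σ : Equiv.Perm GolayPt) : nfixL (toList σ) = nfix σ := by
  refine (Finset.card_equiv ptEquiv.symm (fun p => ?_)).symm
  simp only [Finset.mem_filter, Finset.mem_univ, true_and, Nat.beq_eq]
  show _ ↔ (toList σ).getD (idx p).val 0 = (idx p).val
  rw [toList_getD, ← Fin.ext_iff]
  exact idx_injective.eq_iff.symm

theorem nfix_conj (g σ : Equiv.Perm GolayPt) : nfix (g⁻¹ * σ * g) = nfix σ := by
  refine Finset.card_equiv g (fun p => ?_)
  simp [Equiv.symm_apply_eq]

/-- The standard involution pattern. -/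
def twoList : List ℕ :=
  [1,0,3,2,4,5,9,7,15,6,10,22,12,20,14,8,19,17,21,16,13,18,11,23]

/-- The standard element of order three pattern. -/
def threeList : List ℕ :=
  [0,2,3,1,19,5,9,8,20,11,15,6,16,10,14,13,18,17,12,21,7,4,22,23]

theorem stab5_fix_le : ∀ l ∈ stab5Lists, l = List.range 24 ∨ nfixL l ≤ 8 := by decide +kernel

theorem two_check : ∀ l ∈ stab5Lists, comp (comp twoList l) (comp twoList l) = List.range 24 →
    8 ≤ nfixL (comp twoList l) := by decide +kernel

theorem three_check : ∀ l ∈ stab5Lists,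
    comp (comp (comp threeList l) (comp threeList l)) (comp threeList l) = List.range 24 →
    6 ≤ nfixL (comp threeList l) := by decide +kernel

/-- A nontrivial element of M24 fixes at most 8 points. -/
theorem nfix_le {σ : Equiv.Perm GolayPt} (hσ : σ ∈ M24) (h1 : σ ≠ 1) : nfix σ ≤ 8 := by
  by_contra hlt
  have h5 : 5 ≤ (Finset.univ.filter fun p => σ p = p).toList.length := by
    rw [Finset.length_toList]; unfold nfix at hlt; omega
  obtain ⟨g, hg, hgL⟩ := exists_map_basePts ((Finset.univ.filter fun p => σ p = p).toList.take 5)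
    ((Finset.nodup_toList _).sublist (List.take_sublist _ _)) (by simp)
  rw [List.length_take, min_eq_left h5] at hgL
  have hmem : g⁻¹ * σ * g ∈ stdStab 5 := by
    refine mem_fixPts.mpr ⟨mul_mem (mul_mem (inv_mem hg) hσ) hg, fun p hp => ?_⟩
    have : g p ∈ (Finset.univ.filter fun p => σ p = p).toList.take 5 := hgL ▸ List.mem_map.mpr ⟨p, hp, rfl⟩
    have := (Finset.mem_filter.mp (Finset.mem_toList.mp (List.mem_of_mem_take this))).2
    simp [this]
  rcases stab5_fix_le _ (toList_mem_stab5 hmem) with h | h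
  · rw [← toList_one] at h
    have := toList_injective h
    apply h1
    rw [show σ = g * (g⁻¹ * σ * g) * g⁻¹ by group, this]; group
  · rw [nfixL_toList, nfix_conj] at h; omega

/-- Normalise the action on five points to a standard pattern. -/
theorem normal_form {σ : Equiv.Perm GolayPt} (hσ : σ ∈ M24) (L : List GolayPt) (hL : L.Nodup)
    (h5 : L.length = 5) {τl : List ℕ} (hτ : genOK τl = true) (perm5 : List (ℕ × ℕ))
    (hperm : (perm5.all fun e => Nat.beq (τl.getD (basePos.getD e.1 0) 0) (basePos.getD e.2 0)) = true)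
    (hact : ∀ k < 5, ∃ j < 5, (k, j) ∈ perm5 ∧ σ (L.getD k none) = L.getD j none) :
    ∃ ρ, nfix ρ = nfix σ ∧ (∀ n : ℕ, σ ^ n = 1 → ρ ^ n = 1) ∧ ∃ l ∈ stab5Lists, toList ρ = comp τl l := by
  obtain ⟨τ, hτm, hτl⟩ := exists_perm hτ
  obtain ⟨g, hg, hgL⟩ := exists_map_basePts L hL h5.le
  rw [h5] at hgL
  have hget : ∀ k < 5, g (basePt k) = L.getD k none := by
    intro k hk
    have hk' : k < (basePts.take 5).length := by rw [List.length_take]; show k < min 5 7; omega
    rw [← hgL, List.getD_eq_getElem _ _ (by rw [List.length_map]; exact hk'), List.getElem_map,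
      List.getElem_take, basePt, List.getD_eq_getElem]
  set ρ := g⁻¹ * σ * g with hρ
  have hagree : ∀ p ∈ basePts.take 5, ρ p = τ p := by
    intro p hp
    obtain ⟨k, hk, rfl⟩ := List.getElem_of_mem hp
    have hk5 : k < 5 := by rw [List.length_take] at hk; omega
    rw [List.getElem_take]
    have hb : basePts[k]'(by rw [List.length_take] at hk; omega) = basePt k := by
      rw [basePt, List.getD_eq_getElem]
    rw [hb]
    obtain ⟨j, hj, hmem, hσk⟩ := hact k hk5
    have h := Nat.eq_of_beq_eq_true (List.all_eq_true.mp hperm _ hmem)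
    rw [← hτl, ← idx_basePt (by omega), ← idx_basePt (by omega), toList_getD] at h
    rw [idx_injective (Fin.ext h), hρ, Equiv.Perm.mul_apply, Equiv.Perm.mul_apply, hget k hk5, hσk,
      ← hget j hj, Equiv.Perm.inv_def, Equiv.symm_apply_apply]
  refine ⟨ρ, nfix_conj g σ, fun n hn => ?_, toList (τ⁻¹ * ρ), ?_, ?_⟩
  · have e : ρ ^ n = g⁻¹ * σ ^ n * g := by
      simpa [hρ] using conj_pow (a := g⁻¹) (b := σ) (i := n)
    rw [e, hn]; group
  · refine toList_mem_stab5 (mem_fixPts.mpr ⟨mul_mem (inv_mem hτm)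
      (mul_mem (mul_mem (inv_mem hg) hσ) hg), fun p hp => ?_⟩)
    rw [Equiv.Perm.mul_apply, hagree p hp, Equiv.Perm.inv_def, Equiv.symm_apply_apply]
  · rw [← hτl, ← toList_mul, mul_inv_cancel_left]

theorem none_fixed {σ : Equiv.Perm GolayPt} (hσ : σ ∈ Spor.M23) : σ ∈ M24 ∧ σ none = none := by
  rw [sporM23_eq, mem_fixPts] at hσ
  exact ⟨hσ.1, hσ.2 none (by simp)⟩

theorem one_le_nfix {σ : Equiv.Perm GolayPt} (h0 : σ none = none) : 1 ≤ nfix σ :=
  Finset.card_pos.mpr ⟨none, by simp [h0]⟩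

theorem nfix_mod {σ : Equiv.Perm GolayPt} {p : ℕ} [Fact p.Prime] (hσ : orderOf σ = p) :
    24 ≡ nfix σ [MOD p] := by
  have h := Equiv.Perm.card_compl_support_modEq (σ := σ) (p := p) (n := 1)
    (by rw [pow_one, ← hσ, pow_orderOf_eq_one])
  rw [card_golayPt] at h
  have e : σ.supportᶜ = Finset.univ.filter fun q => σ q = q := by ext q; simp
  rw [e] at h
  exact h.symm

theorem eight_le_nfix_two {σ : Equiv.Perm GolayPt} (hM : σ ∈ Spor.M23) (hσ : orderOf σ = 2) :
    8 ≤ nfix σ := by
  obtain ⟨hm, h0⟩ := none_fixed hM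
  have hne : σ ≠ 1 := fun e => by rw [e, orderOf_one] at hσ; omega
  have hinv : ∀ q, σ (σ q) = q := fun q => by
    have := pow_orderOf_eq_one σ
    rw [hσ, pow_two] at this
    exact DFunLike.congr_fun this q
  have hle := nfix_le hm hne
  obtain ⟨c, hc⟩ : ∃ c, σ c ≠ c := by by_contra h; push Not at h; exact hne (Equiv.ext h)
  obtain ⟨e, he, hec, hec'⟩ : ∃ e, σ e ≠ e ∧ e ≠ c ∧ e ≠ σ c := by
    by_contra h
    push Not at h
    have hsub : (Finset.univ.filter fun q => σ q = q)ᶜ ⊆ {c, σ c} := by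
      intro q hq
      simp only [Finset.mem_compl, Finset.mem_filter, Finset.mem_univ, true_and] at hq
      rw [Finset.mem_insert, Finset.mem_singleton, or_iff_not_imp_left]
      exact h q hq
    have h2 := (Finset.card_le_card hsub).trans Finset.card_le_two
    rw [Finset.card_compl, card_golayPt] at h2
    unfold nfix at hle
    omega
  have hn : ∀ q, σ q ≠ q → q ≠ none := fun q hq e => hq (e ▸ h0)
  have hcc : σ (σ c) ≠ σ c := fun e => hc (by rw [hinv] at e; exact e.symm)
  have hee : σ (σ e) ≠ σ e := fun e' => he (by rw [hinv] at e'; exact e'.symm)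
  obtain ⟨ρ, hfix, hpow, l, hl, hρ⟩ := normal_form hm [none, c, σ c, e, σ e] (by
      simp only [List.nodup_cons, List.mem_cons, List.not_mem_nil, or_false, not_or, not_false_eq_true,
        List.nodup_nil, and_true]
      exact ⟨⟨(hn c hc).symm, (hn _ hcc).symm, (hn e he).symm, (hn _ hee).symm⟩,
        ⟨hc.symm, hec.symm, fun x => hec' (by rw [x, hinv])⟩, ⟨hec'.symm, fun x => hec (σ.injective x.symm)⟩,
        he.symm⟩) rfl (τl := twoList) (by decide +kernel)
    [(0, 0), (1, 2), (2, 1), (3, 4), (4, 3)] (by decide +kernel) (fun k hk => by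
      interval_cases k
      exacts [⟨0, by norm_num, by simp, h0⟩, ⟨2, by norm_num, by simp, rfl⟩, ⟨1, by norm_num, by simp, hinv c⟩,
        ⟨4, by norm_num, by simp, rfl⟩, ⟨3, by norm_num, by simp, hinv e⟩])
  rw [← hfix, ← nfixL_toList, hρ]
  refine two_check l hl ?_
  rw [← hρ, ← toList_mul, ← pow_two, hpow 2 (hσ ▸ pow_orderOf_eq_one σ), toList_one]

theorem six_le_nfix_three {σ : Equiv.Perm GolayPt} (hM : σ ∈ Spor.M23) (hσ : orderOf σ = 3) :
    6 ≤ nfix σ := by
  have : Fact (Nat.Prime 3) := ⟨Nat.prime_three⟩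
  obtain ⟨hm, h0⟩ := none_fixed hM
  have hne : σ ≠ 1 := fun e => by rw [e, orderOf_one] at hσ; omega
  have h3 : ∀ q, σ (σ (σ q)) = q := fun q => by
    have := pow_orderOf_eq_one σ
    rw [hσ, pow_succ, pow_two] at this
    exact DFunLike.congr_fun this q
  have hf : 3 ≤ nfix σ := by
    have h := nfix_mod hσ
    have := one_le_nfix h0
    unfold Nat.ModEq at h
    omega
  obtain ⟨c, hc⟩ : ∃ c, σ c ≠ c := by by_contra h; push Not at h; exact hne (Equiv.ext h)
  obtain ⟨b, hb, hb0⟩ := Finset.exists_mem_ne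
    (s := Finset.univ.filter fun q => σ q = q) (by unfold nfix at hf; omega) none
  simp only [Finset.mem_filter, Finset.mem_univ, true_and] at hb
  have hc2 : σ (σ c) ≠ σ c := fun e => hc (σ.injective e)
  have hc3 : σ (σ (σ c)) ≠ σ (σ c) := fun e => hc2 (σ.injective e)
  have hc02 : σ (σ c) ≠ c := fun e => by
    have := h3 c; rw [e] at this; exact hc this
  have hne' : ∀ q r, σ q = q → σ r ≠ r → q ≠ r := fun q r hq hr e => hr (e ▸ hq)
  obtain ⟨ρ, hfix, hpow, l, hl, hρ⟩ := normal_form hm [none, b, c, σ c, σ (σ c)] (by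
      simp only [List.nodup_cons, List.mem_cons, List.not_mem_nil, or_false, not_or, not_false_eq_true,
        List.nodup_nil, and_true]
      exact ⟨⟨hb0.symm, hne' _ _ h0 hc, hne' _ _ h0 hc2, hne' _ _ h0 hc3⟩,
        ⟨hne' _ _ hb hc, hne' _ _ hb hc2, hne' _ _ hb hc3⟩, ⟨hc.symm, hc02.symm⟩, hc2.symm⟩) rfl
    (τl := threeList) (by decide +kernel) [(0, 0), (1, 1), (2, 3), (3, 4), (4, 2)] (by decide +kernel)
    (fun k hk => by
      interval_cases k
      exacts [⟨0, by norm_num, by simp, h0⟩, ⟨1, by norm_num, by simp, hb⟩, ⟨3, by norm_num, by simp, rfl⟩,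
        ⟨4, by norm_num, by simp, rfl⟩, ⟨2, by norm_num, by simp, h3 c⟩])
  rw [← hfix, ← nfixL_toList, hρ]
  refine three_check l hl ?_
  rw [← hρ, ← toList_mul, ← toList_mul, ← pow_two, ← pow_succ, hpow 3 (hσ ▸ pow_orderOf_eq_one σ), toList_one]

/-- The 23 moved points. -/
abbrev Pt23 : Type := {q : GolayPt // q ≠ none}

theorem card_pt23 : Fintype.card Pt23 = 23 := by decide +kernel

theorem ne_none_iff {σ : Equiv.Perm GolayPt} (h0 : σ none = none) (q : GolayPt) : σ q ≠ none ↔ q ≠ none :=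
  not_congr ⟨fun h => σ.injective (h.trans h0.symm), fun h => h ▸ h0⟩

/-- The action on 23 points. -/
def act23 : Spor.M23 →* Equiv.Perm Pt23 where
  toFun σ := (σ : Equiv.Perm GolayPt).subtypePerm (ne_none_iff (none_fixed σ.2).2)
  map_one' := by ext; rfl
  map_mul' σ τ := by ext; rfl

theorem act23_injective : Function.Injective act23 := by
  intro σ τ h
  refine Subtype.ext (Equiv.ext fun q => ?_)
  by_cases hq : q = none
  · rw [hq, (none_fixed σ.2).2, (none_fixed τ.2).2]
  · exact congrArg Subtype.val (DFunLike.congr_fun h ⟨q, hq⟩)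

theorem act23_transitive (a b : Pt23) : ∃ σ : Spor.M23, act23 σ a = b := by
  obtain ⟨g, hg, hgL⟩ := exists_map_eq (L := [none, a.1]) (L' := [none, b.1]) (by simp [Ne.symm a.2])
    (by simp [Ne.symm b.2]) rfl (by simp)
  simp only [List.map_cons, List.map_nil, List.cons.injEq, and_true] at hgL
  refine ⟨⟨g, ?_⟩, Subtype.ext hgL.2⟩
  rw [sporM23_eq, mem_fixPts]
  exact ⟨hg, by simpa using hgL.1⟩

theorem nfix23 (σ : Spor.M23) :
    (Finset.univ.filter fun a => act23 σ a = a).card + 1 = nfix σ := by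
  have e : (Finset.univ.filter fun a => act23 σ a = a).map ⟨Subtype.val, Subtype.val_injective⟩ =
      (Finset.univ.filter fun q => (σ : Equiv.Perm GolayPt) q = q).erase none := by
    ext q
    simp only [Finset.mem_map, Finset.mem_filter, Finset.mem_univ, true_and, Finset.mem_erase,
      Function.Embedding.coeFn_mk]
    exact ⟨fun ⟨a, ha, haq⟩ => haq ▸ ⟨a.2, congrArg Subtype.val ha⟩, fun ⟨h1, h2⟩ => ⟨⟨q, h1⟩, Subtype.ext h2, rfl⟩⟩
  rw [← Finset.card_map, e, Finset.card_erase_add_one (by simp [(none_fixed σ.2).2])]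
  rfl

/-- The orbit bounds by order. -/
theorem norb_bound (σ : Spor.M23) {p : ℕ} (hp : p.Prime) (hσ : orderOf σ = p) :
    1 ≤ norb (act23 σ) ∧ (p = 2 → 15 ≤ norb (act23 σ)) ∧ (p = 3 → 11 ≤ norb (act23 σ)) ∧
      (p = 5 → 7 ≤ norb (act23 σ)) ∧ (p = 7 → 5 ≤ norb (act23 σ)) := by
  have := Fact.mk hp
  have h := card_add_le_norb (p := p) (act23 σ) (by rw [orderOf_injective _ act23_injective]; exact hσ)
  have hσ' : orderOf (σ : Equiv.Perm GolayPt) = p := by rw [Subgroup.orderOf_coe]; exact hσ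
  have hf := nfix23 σ
  have h1 := one_le_nfix (none_fixed σ.2).2
  have hmod := nfix_mod hσ'
  unfold Nat.ModEq at hmod
  rw [card_pt23] at h
  refine ⟨Nat.pos_of_ne_zero fun e => by rw [e, mul_zero] at h; omega, ?_, ?_, ?_, ?_⟩ <;> intro hp' <;> subst hp'
  · have := eight_le_nfix_two σ.2 hσ'; omega
  · have := six_le_nfix_three σ.2 hσ'; omega
  · omega
  · omega

end CfsgLib.M23Triples
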