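import Mathlib

/-!
# Scott's inequality for a transitive pair of permutations
-/

set_option autoImplicit false

namespace CfsgLib.M23Triples

set_option linter.unusedSectionVars false

variable {α : Type*} [Fintype α] [DecidableEq α]

/-- The permutation operator on functions. -/
noncomputable def permOp (σ : Equiv.Perm α) : (α → ℚ) →ₗ[ℚ] (α → ℚ) := LinearMap.funLeft ℚ ℚ σ.symm

theorem permOp_apply (σ : Equiv.Perm α) (v : α → ℚ) (a : α) : permOp σ v a = v (σ.symm a) := rfl

theorem permOp_mul (σ τ : Equiv.Perm α) (v : α → ℚ) : permOp (σ * τ) v = permOp σ (permOp τ v) := by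
  ext a; rfl

theorem permOp_one (v : α → ℚ) : permOp (1 : Equiv.Perm α) v = v := by ext a; rfl

theorem permOp_single (σ : Equiv.Perm α) (a : α) :
    permOp σ (Pi.single a 1) = Pi.single (σ a) (1 : ℚ) := by
  ext b
  simp only [permOp_apply, Pi.single_apply]
  exact if_congr ⟨fun h => by rw [← h, σ.apply_symm_apply], fun h => by rw [h, σ.symm_apply_apply]⟩ rfl rfl

/-- The operator `1 - σ`. -/
noncomputable def diffOp (σ : Equiv.Perm α) : (α → ℚ) →ₗ[ℚ] (α → ℚ) := LinearMap.id - permOp σ

theorem diffOp_apply (σ : Equiv.Perm α) (v : α → ℚ) : diffOp σ v = v - permOp σ v := rfl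

/-- Number of orbits of the cyclic group of a permutation. -/
noncomputable def norb (σ : Equiv.Perm α) : ℕ :=
  Nat.card (MulAction.orbitRel.Quotient (Subgroup.zpowers σ) α)

theorem norb_le_finrank_ker (σ : Equiv.Perm α) :
    norb σ ≤ Module.finrank ℚ (LinearMap.ker (diffOp σ)) := by
  classical
  set π : α → MulAction.orbitRel.Quotient (Subgroup.zpowers σ) α := Quotient.mk'' with hπ
  have hinj := LinearMap.funLeft_injective_of_surjective ℚ ℚ π Quotient.mk''_surjective
  have : Fintype (MulAction.orbitRel.Quotient (Subgroup.zpowers σ) α) := Fintype.ofFinite _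
  rw [norb, Nat.card_eq_fintype_card, ← Module.finrank_fintype_fun_eq_card ℚ,
    ← LinearMap.finrank_range_of_inj hinj]
  refine Submodule.finrank_mono ?_
  rintro _ ⟨f, rfl⟩
  rw [LinearMap.mem_ker, diffOp_apply, sub_eq_zero]
  ext a
  rw [permOp_apply, LinearMap.funLeft_apply, LinearMap.funLeft_apply]
  congr 1
  refine Quotient.sound ?_
  show a ∈ MulAction.orbit (Subgroup.zpowers σ) (σ.symm a)
  exact ⟨⟨σ, Subgroup.mem_zpowers σ⟩, by show σ (σ.symm a) = a; simp⟩

/-- Scott's inequality. -/
theorem scott (x y z : Equiv.Perm α) (hxyz : x * y * z = 1)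
    (htr : ∀ a b, ∃ g ∈ Subgroup.closure ({x, y} : Set (Equiv.Perm α)), g a = b) :
    norb x + norb y + norb z ≤ Fintype.card α + 2 := by
  rcases isEmpty_or_nonempty α with h | ⟨⟨a₀⟩⟩
  · simp [norb]
  set V := α → ℚ
  set A := diffOp x with hA
  set B := diffOp y with hB
  set C := diffOp z with hC
  have hn : Module.finrank ℚ V = Fintype.card α := Module.finrank_fintype_fun_eq_card ℚ
  have hA' := A.finrank_range_add_finrank_ker
  have hB' := B.finrank_range_add_finrank_ker
  have hC' := C.finrank_range_add_finrank_ker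
  have kA : norb x ≤ Module.finrank ℚ (LinearMap.ker A) := norb_le_finrank_ker x
  have kB : norb y ≤ Module.finrank ℚ (LinearMap.ker B) := norb_le_finrank_ker y
  have kC : norb z ≤ Module.finrank ℚ (LinearMap.ker C) := norb_le_finrank_ker z
  let i₁ : (LinearMap.range A × LinearMap.range B × LinearMap.range C) →ₗ[ℚ] V :=
    (LinearMap.range A).subtype.comp (LinearMap.fst _ _ _) +
      (permOp x).comp ((LinearMap.range B).subtype.comp ((LinearMap.fst _ _ _).comp (LinearMap.snd _ _ _)) +
        (permOp y).comp ((LinearMap.range C).subtype.comp ((LinearMap.snd _ _ _).comp (LinearMap.snd _ _ _))))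
  have hi : ∀ u v w, i₁ (A.rangeRestrict u, B.rangeRestrict v, C.rangeRestrict w) =
      A u + permOp x (B v + permOp y (C w)) := fun u v w => rfl
  set R := LinearMap.range i₁ with hR
  let D : V →ₗ[ℚ] (LinearMap.range A × LinearMap.range B × LinearMap.range C) :=
    A.rangeRestrict.prod (B.rangeRestrict.prod C.rangeRestrict)
  have hDle : LinearMap.range D ≤ LinearMap.ker i₁ := by
    rintro _ ⟨v, rfl⟩
    rw [LinearMap.mem_ker]
    show i₁ (A.rangeRestrict v, B.rangeRestrict v, C.rangeRestrict v) = 0
    rw [hi, hA, hB, hC, diffOp_apply, diffOp_apply, diffOp_apply]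
    have h1 : permOp x (permOp y (permOp z v)) = v := by
      rw [← permOp_mul, ← permOp_mul, hxyz, permOp_one]
    simp only [map_sub, map_add, h1]
    abel
  have hkD : Module.finrank ℚ (LinearMap.ker D) ≤ 1 := by
    refine (Submodule.finrank_mono (t := Submodule.span ℚ {(fun _ => 1 : V)}) ?_).trans
      (by rw [finrank_span_singleton (by intro e; exact one_ne_zero (congrFun e a₀))])
    intro v hv
    rw [LinearMap.mem_ker] at hv
    have e1 : A v = 0 := congrArg (fun r => ((r.1 : LinearMap.range A) : V)) hv
    have e2 : B v = 0 := congrArg (fun r => ((r.2.1 : LinearMap.range B) : V)) hv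
    rw [hA, diffOp_apply, sub_eq_zero] at e1
    rw [hB, diffOp_apply, sub_eq_zero] at e2
    have hfix : ∀ g ∈ Subgroup.closure ({x, y} : Set (Equiv.Perm α)), permOp g v = v := by
      intro g hg
      induction hg using Subgroup.closure_induction with
      | mem g hg => rcases hg with rfl | rfl <;> [exact e1.symm; exact e2.symm]
      | one => exact permOp_one v
      | mul g h _ _ ihg ihh => rw [permOp_mul, ihh, ihg]
      | inv g _ ih => conv_lhs => rw [← ih, ← permOp_mul, inv_mul_cancel, permOp_one]
    refine Submodule.mem_span_singleton.mpr ⟨v a₀, funext fun b => ?_⟩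
    obtain ⟨g, hg, hgb⟩ := htr a₀ b
    have := congrFun (hfix g hg) b
    rw [permOp_apply, show g.symm b = a₀ by rw [← hgb, g.symm_apply_apply]] at this
    simpa using this
  have hD := D.finrank_range_add_finrank_ker
  have hDk := Submodule.finrank_mono hDle
  have hΦ := i₁.finrank_range_add_finrank_ker
  have hmA : ∀ u, A u ∈ R := fun u => ⟨(A.rangeRestrict u, B.rangeRestrict 0, C.rangeRestrict 0), by
    rw [hi]; simp⟩
  have hmB : ∀ u, permOp x (B u) ∈ R := fun u => ⟨(A.rangeRestrict 0, B.rangeRestrict u, C.rangeRestrict 0), by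
    rw [hi]; simp⟩
  have hall : ∀ g ∈ Subgroup.closure ({x, y} : Set (Equiv.Perm α)), ∀ v, v - permOp g v ∈ R := by
    intro g hg
    induction hg using Subgroup.closure_induction with
    | mem g hg =>
      rcases hg with rfl | rfl <;> intro v
      · exact hmA v
      · have e : v - permOp g v = A (B v) + permOp x (B v) := by
          rw [hA, hB, diffOp_apply, diffOp_apply]; abel
        rw [e]; exact R.add_mem (hmA _) (hmB _)
    | one => intro v; rw [permOp_one, sub_self]; exact R.zero_mem
    | mul g h _ _ ihg ihh =>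
      intro v
      have e : v - permOp (g * h) v = (v - permOp g v) + ((v - permOp h v) -
          ((v - permOp h v) - permOp g (v - permOp h v))) := by
        rw [permOp_mul]; simp only [map_sub]; abel
      rw [e]; exact R.add_mem (ihg v) (R.sub_mem (ihh v) (ihg _))
    | inv g _ ih =>
      intro v
      have e : v - permOp g⁻¹ v = -(permOp g⁻¹ v - permOp g (permOp g⁻¹ v)) := by
        rw [← permOp_mul, mul_inv_cancel, permOp_one]; abel
      rw [e]; exact R.neg_mem (ih _)
  have htop : R ⊔ Submodule.span ℚ {Pi.single a₀ 1} = ⊤ := by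
    rw [← top_le_iff, ← (Pi.basisFun ℚ α).span_eq, Submodule.span_le]
    rintro _ ⟨b, rfl⟩
    obtain ⟨g, hg, hgb⟩ := htr a₀ b
    have h1 := hall g hg (Pi.single a₀ 1)
    rw [permOp_single, hgb] at h1
    have e : (Pi.basisFun ℚ α) b = -(Pi.single a₀ 1 - Pi.single b 1) + Pi.single a₀ (1 : ℚ) := by
      rw [Pi.basisFun_apply]; abel
    rw [SetLike.mem_coe, e]
    exact Submodule.add_mem_sup (R.neg_mem h1) (Submodule.mem_span_singleton_self _)
  have hRn : Module.finrank ℚ V ≤ Module.finrank ℚ R + 1 := by
    rw [← finrank_top ℚ V, ← htop]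
    refine (Submodule.finrank_add_le_finrank_add_finrank _ _).trans ?_
    rw [finrank_span_singleton (fun e => one_ne_zero ((Pi.single_eq_same (M := fun _ => ℚ) a₀ 1).symm.trans (congrFun e a₀)))]
  have hRe : Module.finrank ℚ R = Module.finrank ℚ (LinearMap.range i₁) := rfl
  have hVe : Module.finrank ℚ (α → ℚ) = Fintype.card α := hn
  simp only [Module.finrank_prod] at hΦ
  omega

/-- Burnside: a permutation of prime order `p` with `f` fixed points has at least `f + (n - f) / p` orbits. -/
theorem card_add_le_norb {p : ℕ} [Fact p.Prime] (σ : Equiv.Perm α) (hσ : orderOf σ = p) :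
    Fintype.card α + (p - 1) * (Finset.univ.filter fun a => σ a = a).card ≤ p * norb σ := by
  classical
  have : Fintype (MulAction.orbitRel.Quotient (Subgroup.zpowers σ) α) := Fintype.ofFinite _
  have h := MulAction.sum_card_fixedBy_eq_card_orbits_mul_card_group (Subgroup.zpowers σ) α
  have hcard : Fintype.card (Subgroup.zpowers σ) = p := by
    rw [← Nat.card_eq_fintype_card, Nat.card_zpowers, hσ]
  rw [hcard] at h
  rw [norb, Nat.card_eq_fintype_card, mul_comm p, ← h, ← Finset.add_sum_erase _ _ (Finset.mem_univ 1)]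
  refine Nat.add_le_add ?_ ?_
  · exact Fintype.card_le_of_injective (fun a => ⟨a, by simp⟩) (fun a b e => by simpa using e)
  · refine le_trans ?_ (Finset.card_nsmul_le_sum _ _ (Finset.univ.filter fun a => σ a = a).card (fun g _ => ?_))
    · rw [Finset.card_erase_of_mem (Finset.mem_univ _), Finset.card_univ, hcard, smul_eq_mul]
    · rw [Finset.card_filter]
      rw [← Finset.card_filter, ← Fintype.card_subtype]
      refine Fintype.card_le_of_injective (fun a => ⟨a.1, ?_⟩) (fun a b e => Subtype.ext (by simpa using e))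
      obtain ⟨⟨k, hk⟩, -⟩ := (⟨Subgroup.mem_zpowers_iff.mp g.2, trivial⟩ : (∃ k : ℤ, σ ^ k = g.1) ∧ True)
      show g.1 a.1 = a.1
      rw [← hk]
      exact Equiv.Perm.zpow_apply_eq_self_of_apply_eq_self a.2 k

end CfsgLib.M23Triples
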